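import Cfsg.Agent.McLFus.Data
import Cfsg.Agent.LeechOut.McLData

/-!
Kernel checks on packed permutations of the 275 points.
-/

set_option autoImplicit false
set_option maxRecDepth 100000
set_option Elab.async false

namespace CfsgLib.McLFus

open CfsgLib.LeechOut

/-- Check on all numbers below a bound. -/
def allLt (n : ℕ) (f : ℕ → Bool) : Bool := (List.range n).all f

theorem allLt_spec {n : ℕ} {f : ℕ → Bool} (h : allLt n f = true) {k : ℕ} (hk : k < n) : f k = true :=
  List.all_eq_true.1 h k (List.mem_range.2 hk)

/-- An entry of a packed table. -/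
def tabN (t k : ℕ) : ℕ := (t >>> (9 * k)) &&& 511

/-- Adjacency. -/
def adjN (u v : ℕ) : Bool := ((rows.getD (u / 20) []).getD (u % 20) 0).testBit v

/-- Packing in fields of 9 bits. -/
def pk : List ℕ → ℕ
  | [] => 0
  | x :: r => x + 512 * pk r

/-- The identity. -/
def idN : ℕ := pk (List.range 275)

/-- Product: first `u`, then `t`. -/
def mulN (t u : ℕ) : ℕ := pk ((List.range 275).map fun k => tabN t (tabN u k))

/-- Power. -/
def powN (t : ℕ) : ℕ → ℕ
  | 0 => idN
  | n + 1 => mulN t (powN t n)

/-- An element of the program. -/
def eN (i : ℕ) : ℕ := elts.getD i 0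

/-- An element of the Sylow subgroup. -/
def sN (i : ℕ) : ℕ := syl.getD i 0

/-- The first points of a cycle. -/
def orbN (g : ℕ) : ℕ → ℕ → List ℕ
  | 0, _ => []
  | n + 1, u => u :: orbN g n (tabN g u)

/-- A permutation of the points preserving adjacency below the diagonal. -/
def autOk (t : ℕ) : Bool := allLt 275 fun u => allLt u fun v => adjN (tabN t u) (tabN t v) == adjN u v

/-- A partial assignment can be extended by `r ↦ t`. -/
def okT (g p r t : ℕ) (S pre : List ℕ) : Bool :=
  ((tabN g r == r) == (tabN g t == t)) && ((r :: S).zip (t :: pre)).all fun uv =>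
    ((orbN g p uv.1).zip (orbN g p uv.2)).all fun ab => (adjN ab.1 r == adjN ab.2 t) && ((ab.1 == r) == (ab.2 == t))

/-- All consistent images of a list of points under the centraliser. -/
def enumT (g p : ℕ) : List ℕ → List (List ℕ)
  | [] => [[]]
  | r :: S => (enumT g p S).flatMap fun pre =>
      ((List.range 275).filter fun t => okT g p r t S pre).map (· :: pre)

/-- The relations of a point to a list of points. -/
def sigN (pts : List ℕ) (v : ℕ) : ℕ :=
  pts.foldr (fun u acc => ((bif adjN u v then 1 else 0) + (bif u == v then 2 else 0)) + 4 * acc) 0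

/-- Increasing. -/
def incrN : List ℕ → Bool
  | [] => true
  | [_] => true
  | x :: y :: r => decide (x < y) && incrN (y :: r)

/-- The centraliser candidates. -/
def knownU : List ℕ := (List.range 2).flatMap fun l => (List.range 8).map fun i => mulN (powN (sN uPos) i) (powN pT l)

/-- A permutation is not realised by the lattice. -/
def killed (c : ℕ) : Bool :=
  !((lcAt killAt.2 (McL.spanA.rows.getD killAt.1 [])
      (McL.cert.fx ++ McL.spanA.sel.map fun li =>
        McL.cert.pt (tabN c (itT (McL.cert.perms.getD 0 []) li.2 (McL.spanA.base.getD li.1 0))))) %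
    (McL.spanA.D : ℤ) == 0)

/-- The candidates are powers of the element or not realised. -/
def candOk : Bool :=
  allLt 16 fun n => syl.elem (knownU.getD n 0) || killed (knownU.getD n 0)

/-- Check of the program. -/
def progOk : Bool :=
  elts.length == steps.length + 2 && (eN 0 == pA) && (eN 1 == pZ) &&
  (List.range steps.length).all fun k => decide ((steps.getD k (0, 0)).1 < k + 2) &&
    decide ((steps.getD k (0, 0)).2 < k + 2) &&
    eN (k + 2) == mulN (eN (steps.getD k (0, 0)).1) (eN (steps.getD k (0, 0)).2)

/-- The generators of the Sylow subgroup. -/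
def genN (k : ℕ) : ℕ := eN (genIds.getD k 0)

/-- The spanning tree. -/
def treeOk : List (ℕ × ℕ × ℕ) → ℕ → Bool
  | [], seen => seen == 2 ^ 128 - 1
  | (i, k, j) :: r, seen => seen.testBit i && decide (k < 3) && decide (j < 128) &&
      mulN (sN i) (genN k) == sN j && treeOk r (seen ||| 1 <<< j)

theorem chk_perm : (allLt 275 fun k => tabN pA k == tb (McL.cert.perms.getD 0 []) k &&
    tabN pZ k == tb (McL.cert.perms.getD 2 []) k) = true := by decide +kernel

theorem chk_np : McL.cert.np = 275 ∧ McL.cert.N = 898128000 := by decide +kernel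

theorem chk_t : (allLt 275 fun k => decide (tabN pT k < 275) && tabN pT (tabN pT k) == k) = true := by
  decide +kernel

theorem chk_aut : autOk pA = true ∧ autOk pZ = true ∧ autOk pT = true := by decide +kernel

theorem chk_symm : (allLt 275 fun u => !adjN u u && allLt u fun v => adjN u v == adjN v u) = true := by
  decide +kernel

theorem chk_prog : progOk = true := by decide +kernel

theorem chk_syl : syl.length = 128 ∧ incrN syl = true ∧ (allLt 3 fun k => decide (genIds.getD k 0 < elts.length)) = true ∧
    sN onePos = idN ∧ onePos < 128 := by decide +kernel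

theorem chk_closed : (allLt 128 fun i => allLt 3 fun k => decide ((mulTab.getD i []).getD k 0 < 128) &&
    mulN (sN i) (genN k) == sN ((mulTab.getD i []).getD k 0)) = true := by decide +kernel

theorem chk_tree : treeOk tree (1 <<< onePos) = true := by decide +kernel

theorem chk_zu : sN zPos = eN zId ∧ sN uPos = eN uId ∧ zPos < 128 ∧ uPos < 128 ∧ zId < elts.length ∧
    uId < elts.length ∧ sN zPos ≠ idN ∧ powN (sN uPos) 4 ≠ idN := by decide +kernel

theorem chk_center : (allLt 128 fun i => i == onePos || i == zPos ||
    mulN (sN i) (genN (centWit.getD i 0)) != mulN (genN (centWit.getD i 0)) (sN i)) = true ∧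
    (allLt 128 fun i => decide (centWit.getD i 0 < 3)) = true := by decide +kernel

theorem chk_conj : (allLt 3 fun k => decide (conjIds.getD k 0 < elts.length) &&
    mulN (eN (conjIds.getD k 0)) (sN zPos) == mulN (genN k) (eN (conjIds.getD k 0))) = true := by decide +kernel

theorem chk_move : (allLt 128 fun i => powN (sN i) 4 == idN || (decide (moveWit.getD i 0 < 128) &&
    mulN (sN (moveWit.getD i 0)) (sN uPos) == mulN (sN i) (sN (moveWit.getD i 0)))) = true := by decide +kernel

theorem chk_pts : ptsU = baseU.flatMap (orbN (sN uPos) 8) ∧ (baseU.all fun r => decide (r < 275)) = true := by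
  decide +kernel

theorem chk_sep : ordU.length = 275 ∧ (ordU.all fun k => decide (k < 275)) = true ∧
    incrN (ordU.map (sigN ptsU)) = true := by decide +kernel

theorem chk_known : (knownU.all fun c => mulN c (sN uPos) == mulN (sN uPos) c) = true ∧ knownU.length = 16 := by
  decide +kernel

theorem chk_enum : (enumT (sN uPos) 8 baseU).all (fun t => knownU.any fun c => t == baseU.map (tabN c)) = true := by
  decide +kernel

theorem chk_cand : candOk = true := by decide +kernel

theorem chk_span : (McL.spanA.sel.all fun li =>
    decide (itT (McL.cert.perms.getD 0 []) li.2 (McL.spanA.base.getD li.1 0) < 275)) = true ∧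
    killAt.1 < 24 ∧ killAt.2 < 24 := by decide +kernel

end CfsgLib.McLFus
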