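import Cfsg.Agent.McLFus.Check
import Cfsg.Agent.LeechOut.McLMain
import Cfsg.Agent.Fusion.GenSimple
import Cfsg.Agent.Hall.StructBatch

/-!
The 2-fusion system of the McLaughlin group is simple.
-/

set_option autoImplicit false
set_option maxRecDepth 100000

namespace CfsgLib.McLFus

open Cfsg CfsgLib.LeechOut CfsgLib.Leech CfsgLib.Leech.Co3Mult CfsgLib.Golay Equiv MulAction
open scoped Pointwise

/-- The packed table describes the permutation. -/
def Rep (t : ℕ) (σ : Perm (Fin 275)) : Prop := ∀ k : Fin 275, (σ k).val = tabN t k.val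

theorem tabN_eq (t k : ℕ) : tabN t k = t / 2 ^ (9 * k) % 512 := by
  rw [tabN, Nat.shiftRight_eq_div_pow]
  exact Nat.and_two_pow_sub_one_eq_mod _ 9

theorem tabN_pk : ∀ (l : List ℕ), (∀ x ∈ l, x < 512) → ∀ k, k < l.length → tabN (pk l) k = l.getD k 0
  | [], _, k, hk => by simp at hk
  | x :: r, h, 0, _ => by
    rw [tabN_eq, pk, List.getD_cons_zero]
    have := h x List.mem_cons_self
    simp only [Nat.mul_zero, pow_zero, Nat.div_one]
    omega
  | x :: r, h, k + 1, hk => by
    have hx := h x List.mem_cons_self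
    rw [List.getD_cons_succ, ← tabN_pk r (fun y hy => h y (List.mem_cons_of_mem _ hy)) k (by simpa using hk),
      tabN_eq, tabN_eq, pk, Nat.mul_succ, pow_add, Nat.mul_comm (2 ^ (9 * k)) (2 ^ 9), ← Nat.div_div_eq_div_mul]
    congr 2
    omega

theorem rep_id : Rep idN 1 := fun k => by
  rw [idN, tabN_pk _ (fun x hx => by have := List.mem_range.1 hx; omega) _ (by simp [k.isLt]),
    List.getD_eq_getElem _ _ (by simp [k.isLt]), List.getElem_range]
  rfl

theorem rep_mul {t u : ℕ} {σ τ : Perm (Fin 275)} (ht : Rep t σ) (hu : Rep u τ) : Rep (mulN t u) (σ * τ) := by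
  intro k
  have hb : ∀ x ∈ (List.range 275).map (fun k => tabN t (tabN u k)), x < 512 := by
    intro x hx
    obtain ⟨i, -, rfl⟩ := List.mem_map.1 hx
    rw [tabN_eq]
    exact Nat.mod_lt _ (by norm_num)
  rw [mulN, tabN_pk _ hb _ (by simp [k.isLt]), List.getD_eq_getElem _ _ (by simp [k.isLt]), List.getElem_map,
    List.getElem_range, Perm.mul_apply, ht, hu]

theorem rep_pow {t : ℕ} {σ : Perm (Fin 275)} (ht : Rep t σ) : ∀ n, Rep (powN t n) (σ ^ n)
  | 0 => by rw [pow_zero]; exact rep_id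
  | n + 1 => by rw [pow_succ']; exact rep_mul ht (rep_pow ht n)

theorem rep_ext {t u : ℕ} {σ τ : Perm (Fin 275)} (ht : Rep t σ) (hu : Rep u τ) (h : t = u) : σ = τ :=
  Equiv.ext fun k => Fin.ext (by rw [ht, hu, h])

theorem rep_one {t : ℕ} {σ : Perm (Fin 275)} (ht : Rep t σ) (h : t = idN) : σ = 1 := rep_ext ht rep_id h

/-- The automorphisms of the adjacency. -/
def gAll : Subgroup (Perm (Fin 275)) where
  carrier := {σ | ∀ u v : Fin 275, adjN (σ u).val (σ v).val = adjN u.val v.val}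
  one_mem' _ _ := rfl
  mul_mem' {s t} hs ht u v := (hs _ _).trans (ht u v)
  inv_mem' {s} hs u v := by
    rw [← hs]
    simp

theorem mem_gAll {t : ℕ} {σ : Perm (Fin 275)} (hr : Rep t σ) (h : autOk t = true) : σ ∈ gAll := by
  have hirr : ∀ u : Fin 275, adjN u.val u.val = false := fun u => by
    have := allLt_spec chk_symm u.isLt
    simp only [Bool.and_eq_true, Bool.not_eq_true'] at this
    exact this.1
  have hsym : ∀ u v : Fin 275, v.val < u.val → adjN u.val v.val = adjN v.val u.val := fun u v huv => by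
    have := allLt_spec chk_symm u.isLt
    simp only [Bool.and_eq_true] at this
    exact beq_iff_eq.1 (allLt_spec this.2 huv)
  have hsym' : ∀ u v : Fin 275, adjN u.val v.val = adjN v.val u.val := fun u v => by
    rcases lt_trichotomy v.val u.val with h | h | h
    · exact hsym u v h
    · rw [h]
    · exact (hsym v u h).symm
  have low : ∀ u v : Fin 275, v.val < u.val → adjN (σ u).val (σ v).val = adjN u.val v.val := fun u v huv => by
    rw [hr, hr]; exact beq_iff_eq.1 (allLt_spec (allLt_spec h u.isLt) huv)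
  intro u v
  rcases lt_trichotomy v.val u.val with h | h | h
  · exact low u v h
  · rw [Fin.ext h, hirr, hirr]
  · rw [hsym', low v u h, hsym']

theorem incrN_pairwise : ∀ {l : List ℕ}, incrN l = true → l.Pairwise (· < ·)
  | [], _ => List.Pairwise.nil
  | [_], _ => List.pairwise_singleton _ _
  | x :: y :: r, h => by
    simp only [incrN, Bool.and_eq_true, decide_eq_true_eq] at h
    have ih := incrN_pairwise h.2
    refine List.pairwise_cons.2 ⟨fun z hz => ?_, ih⟩
    rcases List.mem_cons.1 hz with rfl | hz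
    · exact h.1
    · exact h.1.trans ((List.pairwise_cons.1 ih).1 z hz)

theorem sig_injective {pts ord : List ℕ}
    (h : ord.length = 275 ∧ (ord.all fun k => decide (k < 275)) = true ∧ incrN (ord.map (sigN pts)) = true) {v w : Fin 275}
    (e : sigN pts v.val = sigN pts w.val) : v = w := by
  simp only [List.all_eq_true, decide_eq_true_eq] at h
  obtain ⟨hlen, hb, hinc⟩ := h
  have hnd : (ord.map (sigN pts)).Nodup := (incrN_pairwise hinc).imp fun hlt => Nat.ne_of_lt hlt
  have hall : ∀ u : Fin 275, u.val ∈ ord := by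
    have hs : ord.toFinset = Finset.range 275 := Finset.eq_of_subset_of_card_le
      (fun q hq => Finset.mem_range.2 (hb q (List.mem_toFinset.1 hq)))
      (by rw [Finset.card_range, List.toFinset_card_of_nodup (List.Nodup.of_map _ hnd), hlen])
    exact fun u => List.mem_toFinset.1 (hs.symm ▸ Finset.mem_range.2 u.isLt)
  exact Fin.ext (List.inj_on_of_nodup_map hnd (hall v) (hall w) e)

theorem orbN_mem {g : ℕ} {σ : Perm (Fin 275)} (hg : Rep g σ) : ∀ (n : ℕ) (r : Fin 275), ∀ u ∈ orbN g n r.val,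
    ∃ i, ((σ ^ i) r).val = u
  | 0, _, _, hu => by simp [orbN] at hu
  | n + 1, r, u, hu => by
    rcases List.mem_cons.1 hu with rfl | hu
    · exact ⟨0, rfl⟩
    · rw [← hg r] at hu
      obtain ⟨i, hi⟩ := orbN_mem hg n (σ r) u hu
      exact ⟨i + 1, by rw [pow_succ]; exact hi⟩

theorem orbN_zip {g : ℕ} {σ c : Perm (Fin 275)} (hg : Rep g σ) (hcσ : ∀ u, c (σ u) = σ (c u)) :
    ∀ (n : ℕ) (u : Fin 275), ∀ ab ∈ (orbN g n u.val).zip (orbN g n (c u).val),
      ∃ w : Fin 275, ab = (w.val, (c w).val)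
  | 0, _, _, h => by simp [orbN] at h
  | n + 1, u, ab, h => by
    simp only [orbN, List.zip_cons_cons, List.mem_cons] at h
    rcases h with rfl | h
    · exact ⟨u, rfl⟩
    · rw [← hg u, ← hg (c u), ← hcσ] at h
      exact orbN_zip hg hcσ n (σ u) ab h

theorem mem_enumT {g p : ℕ} {σ c : Perm (Fin 275)} (hg : Rep g σ) (hc : c ∈ gAll) (hcomm : Commute c σ) :
    ∀ S : List (Fin 275), S.map (fun r => (c r).val) ∈ enumT g p (S.map Fin.val)
  | [] => List.mem_singleton.2 rfl
  | r :: S => by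
    simp only [List.map_cons, enumT, List.mem_flatMap, List.mem_map, List.mem_filter, List.mem_range]
    refine ⟨_, mem_enumT hg hc hcomm S, _, ⟨(c r).isLt, ?_⟩, rfl⟩
    have hcσ : ∀ u, c (σ u) = σ (c u) := fun u => Perm.ext_iff.1 hcomm u
    have hsame : ∀ x y : Fin 275, (x.val == y.val) = ((c x).val == (c y).val) := fun x y => by
      rw [Bool.eq_iff_iff, beq_iff_eq, beq_iff_eq, Fin.val_inj, Fin.val_inj, c.injective.eq_iff]
    simp only [okT, Bool.and_eq_true, List.all_eq_true, beq_iff_eq]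
    refine ⟨?_, fun uv huv ab hab => ?_⟩
    · rw [← hg r, ← hg (c r), ← hcσ, hsame]
    · have huv' : uv ∈ ((r :: S).map fun x => (x.val, (c x).val)) := by
        rw [← List.zip_map' (f := Fin.val) (g := fun x => (c x).val)]
        exact huv
      obtain ⟨u, -, rfl⟩ := List.mem_map.1 huv'
      obtain ⟨w, rfl⟩ := orbN_zip hg hcσ p u ab hab
      exact ⟨(hc w r).symm, hsame _ _⟩

theorem eq_of_base {g p : ℕ} {σ c c' : Perm (Fin 275)} (hg : Rep g σ) (hc : c ∈ gAll) (hc' : c' ∈ gAll)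
    (h : Commute c σ) (h' : Commute c' σ) {B pts ord : List ℕ}
    (hpts : pts = B.flatMap (orbN g p) ∧ (B.all fun r => decide (r < 275)) = true)
    (hsep : ord.length = 275 ∧ (ord.all fun k => decide (k < 275)) = true ∧ incrN (ord.map (sigN pts)) = true) (he : ∀ r : Fin 275, r.val ∈ B → c r = c' r) : c = c' := by
  simp only [List.all_eq_true, decide_eq_true_eq] at hpts
  obtain ⟨rfl, hB⟩ := hpts
  refine Equiv.ext fun v => ?_
  set d := c'⁻¹ * c with hd'
  have hd : d ∈ gAll := mul_mem (inv_mem hc') hc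
  have hdc : Commute d σ := h'.inv_left.mul_left h
  have hfix : ∀ u ∈ B.flatMap (orbN g p), ∃ w : Fin 275, w.val = u ∧ d w = w := by
    intro u hu
    obtain ⟨r, hr, hu⟩ := List.mem_flatMap.1 hu
    obtain ⟨i, hi⟩ := orbN_mem hg p ⟨r, hB r hr⟩ u hu
    refine ⟨_, hi, ?_⟩
    have e := Perm.ext_iff.1 (hdc.pow_right i) ⟨r, hB r hr⟩
    have er : d ⟨r, hB r hr⟩ = ⟨r, hB r hr⟩ := by simp [hd', he ⟨r, hB r hr⟩ hr]
    simp only [Perm.mul_apply] at e
    rw [e, er]
  have key : ∀ l : List ℕ, (∀ u ∈ l, ∃ w : Fin 275, w.val = u ∧ d w = w) →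
      sigN l (d v).val = sigN l v.val := by
    intro l
    induction l with
    | nil => exact fun _ => rfl
    | cons u l ih =>
      intro hl
      obtain ⟨w, rfl, hw⟩ := hl u List.mem_cons_self
      have h1 : adjN w.val (d v).val = adjN w.val v.val := by conv_lhs => rw [← hw]; exact hd w v
      have h2 : (w.val == (d v).val) = (w.val == v.val) := by
        rw [Bool.eq_iff_iff, beq_iff_eq, beq_iff_eq, Fin.val_inj, Fin.val_inj]
        conv_lhs => rw [← hw]
        exact d.injective.eq_iff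
      show (_ + _) + 4 * sigN l (d v).val = _
      rw [h1, h2, ih fun x hx => hl x (List.mem_cons_of_mem _ hx)]
      rfl
  have e : d v = v := sig_injective hsep (key _ hfix)
  rw [hd', Perm.mul_apply, Perm.inv_eq_iff_eq] at e
  exact e

/-! ### The action on the points -/

theorem hN : Nat.card McL.cert.Grp = McL.cert.N := by rw [McL.grp_eq, Leech.McL.card_K]; rfl

theorem hfin : Finite McL.cert.Grp := by rw [McL.grp_eq]; exact Leech.McL.finite_K

theorem exists_perm (c : McL.cert.Grp) :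
    ∃ σ : Perm (Fin 275), ∀ i : Fin 275, (c : Co0) • McL.cert.P i.val = McL.cert.P (σ i).val := by
  choose f hf hfe using fun i : Fin 275 => img_mem McL.ok hN hfin c i.val (chk_np.1.symm ▸ i.isLt)
  let F : Fin 275 → Fin 275 := fun i => ⟨f i, chk_np.1 ▸ hf i⟩
  have hinj : Function.Injective F := fun a b e => by
    refine Fin.ext (P_inj McL.ok (chk_np.1.symm ▸ a.isLt) (chk_np.1.symm ▸ b.isLt)
      (MulAction.injective (c : Co0) ?_))
    show (c : Co0) • McL.cert.P a.val = (c : Co0) • McL.cert.P b.val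
    rw [hfe, hfe, show f a = f b from congrArg Fin.val e]
  exact ⟨Equiv.ofBijective F (Finite.injective_iff_bijective.1 hinj), hfe⟩

theorem perm_unique {c : McL.cert.Grp} {σ τ : Perm (Fin 275)}
    (hσ : ∀ i : Fin 275, (c : Co0) • McL.cert.P i.val = McL.cert.P (σ i).val)
    (hτ : ∀ i : Fin 275, (c : Co0) • McL.cert.P i.val = McL.cert.P (τ i).val) : σ = τ :=
  Equiv.ext fun i => Fin.ext (P_inj McL.ok (chk_np.1.symm ▸ (σ i).isLt) (chk_np.1.symm ▸ (τ i).isLt)
    ((hσ i).symm.trans (hτ i)))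

/-- The action on the points. -/
noncomputable def rho : McL.cert.Grp →* Perm (Fin 275) :=
  MonoidHom.mk' (fun c => (exists_perm c).choose) fun c d => perm_unique (exists_perm (c * d)).choose_spec
    fun i => by rw [Subgroup.coe_mul, mul_smul, (exists_perm d).choose_spec, (exists_perm c).choose_spec]; rfl

theorem rho_spec (c : McL.cert.Grp) (i : Fin 275) :
    (c : Co0) • McL.cert.P i.val = McL.cert.P (rho c i).val := (exists_perm c).choose_spec i

/-- The first point of a chosen span vector. -/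
def selPt (li : ℕ × ℕ) : ℕ := itT (McL.cert.perms.getD 0 []) li.2 (McL.spanA.base.getD li.1 0)

theorem selPt_lt {li : ℕ × ℕ} (h : li ∈ McL.spanA.sel) : selPt li < 275 :=
  of_decide_eq_true (List.all_eq_true.1 chk_span.1 li h)

theorem rho_injective : Function.Injective rho := by
  intro a b e
  refine eq_of_span McL.ok (fxOk_of McL.fx_ok) (by norm_num : 0 < 4) (searchA_span McL.ok) fun li hli => ?_
  have h1 := rho_spec a ⟨selPt li, selPt_lt hli⟩
  have h2 := rho_spec b ⟨selPt li, selPt_lt hli⟩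
  rw [e] at h1
  exact h1.trans h2.symm

/-- The permutation group. -/
noncomputable def gP : Subgroup (Perm (Fin 275)) := rho.range

theorem card_gP : Nat.card gP = 898128000 := by
  rw [gP, ← Nat.card_congr (MonoidHom.ofInjective rho_injective).toEquiv, hN, chk_np.2]

theorem rep_el0 : Rep pA (rho (McL.cert.el 0)) := fun k => by
  have hk : k.val < McL.cert.np := by rw [chk_np.1]; exact k.isLt
  have h := el_smul McL.ok (by norm_num : 0 < 4) hk
  have e := P_inj McL.ok (chk_np.1.symm ▸ (rho (McL.cert.el 0) k).isLt) h.1 ((rho_spec _ k).symm.trans h.2)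
  rw [e]
  have := allLt_spec chk_perm k.isLt
  simp only [Bool.and_eq_true, beq_iff_eq] at this
  exact this.1.symm

theorem rep_el2 : Rep pZ (rho (McL.cert.el 2)) := fun k => by
  have hk : k.val < McL.cert.np := by rw [chk_np.1]; exact k.isLt
  have h := el_smul McL.ok (by norm_num : 2 < 4) hk
  have e := P_inj McL.ok (chk_np.1.symm ▸ (rho (McL.cert.el 2) k).isLt) h.1 ((rho_spec _ k).symm.trans h.2)
  rw [e]
  have := allLt_spec chk_perm k.isLt
  simp only [Bool.and_eq_true, beq_iff_eq] at this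
  exact this.2.symm

theorem gP_le : gP ≤ gAll := by
  rw [gP, MonoidHom.range_eq_map, ← closure_top McL.ok hN hfin, MonoidHom.map_closure, Subgroup.closure_le,
    Set.image_pair]
  rintro x (rfl | rfl)
  exacts [mem_gAll rep_el0 chk_aut.1, mem_gAll rep_el2 chk_aut.2.1]

theorem elts_mem : ∀ i < elts.length, ∃ σ : gP, Rep (eN i) (σ : Perm (Fin 275)) := by
  have h := chk_prog
  simp only [progOk, Bool.and_eq_true, beq_iff_eq, decide_eq_true_eq, List.all_eq_true, List.mem_range] at h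
  obtain ⟨⟨⟨hlen, h0⟩, h1⟩, hs⟩ := h
  intro i
  induction i using Nat.strong_induction_on with
  | _ i ih =>
    intro hi
    rcases i with _ | _ | k
    · exact ⟨⟨_, McL.cert.el 0, rfl⟩, h0 ▸ rep_el0⟩
    · exact ⟨⟨_, McL.cert.el 2, rfl⟩, h1 ▸ rep_el2⟩
    · obtain ⟨⟨ha, hb⟩, he⟩ := hs k (by omega)
      obtain ⟨s, hsr⟩ := ih _ (by omega) (show (steps.getD k (0, 0)).1 < elts.length by omega)
      obtain ⟨t, htr⟩ := ih _ (by omega) (show (steps.getD k (0, 0)).2 < elts.length by omega)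
      exact ⟨s * t, he ▸ rep_mul hsr htr⟩

/-! ### The Sylow subgroup -/

theorem gen_ex (k : Fin 3) : ∃ σ : gP, Rep (genN k.val) (σ : Perm (Fin 275)) :=
  elts_mem _ (of_decide_eq_true (allLt_spec chk_syl.2.2.1 k.isLt))

/-- A generator. -/
noncomputable def gen (k : Fin 3) : gP := (gen_ex k).choose

theorem gen_rep (k : Fin 3) : Rep (genN k.val) (gen k : Perm (Fin 275)) := (gen_ex k).choose_spec

theorem syl_ex : ∀ i < 128, ∃ σ : gP, σ ∈ Subgroup.closure (Set.range gen) ∧ Rep (sN i) (σ : Perm (Fin 275)) := by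
  have key : ∀ (tr : List (ℕ × ℕ × ℕ)) (seen : ℕ), treeOk tr seen = true →
      (∀ i, seen.testBit i = true → ∃ σ : gP, σ ∈ Subgroup.closure (Set.range gen) ∧
        Rep (sN i) (σ : Perm (Fin 275))) →
      ∀ i < 128, ∃ σ : gP, σ ∈ Subgroup.closure (Set.range gen) ∧ Rep (sN i) (σ : Perm (Fin 275)) := by
    intro tr
    induction tr with
    | nil =>
      intro seen h hs i hi
      simp only [treeOk, beq_iff_eq] at h
      exact hs i (by rw [h, Nat.testBit_two_pow_sub_one]; exact decide_eq_true hi)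
    | cons e r ih =>
      obtain ⟨p, k, j⟩ := e
      intro seen h hs
      simp only [treeOk, Bool.and_eq_true, decide_eq_true_eq, beq_iff_eq] at h
      obtain ⟨⟨⟨⟨hp, hk⟩, -⟩, he⟩, hr⟩ := h
      refine ih _ hr fun i hi => ?_
      rw [Nat.testBit_lor, Bool.or_eq_true, Nat.one_shiftLeft, Nat.testBit_two_pow, decide_eq_true_eq] at hi
      rcases hi with hi | rfl
      · exact hs i hi
      · obtain ⟨σ, hσ, hσr⟩ := hs p hp
        exact ⟨σ * gen ⟨k, hk⟩, mul_mem hσ (Subgroup.subset_closure ⟨_, rfl⟩),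
          he ▸ rep_mul hσr (gen_rep ⟨k, hk⟩)⟩
  refine key tree _ chk_tree fun i hi => ?_
  rw [Nat.one_shiftLeft, Nat.testBit_two_pow, decide_eq_true_eq] at hi
  subst hi
  exact ⟨1, one_mem _, chk_syl.2.2.2.1 ▸ rep_id⟩

/-- An element of the Sylow subgroup. -/
noncomputable def se (i : Fin 128) : gP := (syl_ex i.val i.isLt).choose

theorem se_rep (i : Fin 128) : Rep (sN i.val) (se i : Perm (Fin 275)) := (syl_ex i.val i.isLt).choose_spec.2

theorem eq_of_rep {x y : gP} {s t : ℕ} (hx : Rep s (x : Perm (Fin 275))) (hy : Rep t (y : Perm (Fin 275)))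
    (h : s = t) : x = y := Subtype.ext (rep_ext hx hy h)

/-- The one. -/
noncomputable def oneIdx : Fin 128 := ⟨onePos, chk_syl.2.2.2.2⟩

theorem se_one : se oneIdx = 1 := eq_of_rep (se_rep _) rep_id chk_syl.2.2.2.1

theorem se_mul_gen (i : Fin 128) (k : Fin 3) : ∃ j : Fin 128, se i * gen k = se j := by
  have h := allLt_spec (allLt_spec chk_closed i.isLt) k.isLt
  simp only [Bool.and_eq_true, decide_eq_true_eq, beq_iff_eq] at h
  exact ⟨⟨_, h.1⟩, eq_of_rep (rep_mul (se_rep i) (gen_rep k)) (se_rep _) h.2⟩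

/-- The Sylow subgroup. -/
noncomputable def sylS : Subgroup gP := Subgroup.closure (Set.range gen)

theorem se_mem (i : Fin 128) : se i ∈ sylS := (syl_ex i.val i.isLt).choose_spec.1

theorem mem_sylS {x : gP} (hx : x ∈ sylS) : ∃ i, x = se i := by
  have hfinP : Finite gP := Finite.of_injective _ Subtype.val_injective
  have hx' : x ∈ Submonoid.closure (Set.range gen) := by
    rw [← Subgroup.mem_toSubmonoid, sylS] at hx
    rwa [Subgroup.closure_toSubmonoid_of_finite] at hx
  have key : ∀ y ∈ Submonoid.closure (Set.range gen), ∀ i, ∃ j, se i * y = se j := by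
    intro y hy
    induction hy using Submonoid.closure_induction with
    | mem z hz => obtain ⟨k, rfl⟩ := hz; exact fun i => se_mul_gen i k
    | one => exact fun i => ⟨i, mul_one _⟩
    | mul a b _ _ ha hb =>
      intro i
      obtain ⟨j, hj⟩ := ha i
      obtain ⟨l, hl⟩ := hb j
      exact ⟨l, by rw [← mul_assoc, hj, hl]⟩
  obtain ⟨j, hj⟩ := key x hx' oneIdx
  exact ⟨j, by rw [← hj, se_one, one_mul]⟩

theorem pk_eq {s t : ℕ} (hs : ∃ l : List ℕ, l.length = 275 ∧ (∀ x ∈ l, x < 512) ∧ s = pk l)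
    (ht : ∃ l : List ℕ, l.length = 275 ∧ (∀ x ∈ l, x < 512) ∧ t = pk l)
    (h : ∀ k : Fin 275, tabN s k.val = tabN t k.val) : s = t := by
  obtain ⟨l, hl, hb, rfl⟩ := hs
  obtain ⟨m, hm, hc, rfl⟩ := ht
  congr 1
  refine List.ext_getElem (hl.trans hm.symm) fun i h1 h2 => ?_
  have := h ⟨i, by omega⟩
  rwa [tabN_pk l hb i h1, tabN_pk m hc i h2, List.getD_eq_getElem _ _ h1, List.getD_eq_getElem _ _ h2] at this

theorem mulN_pk (s t : ℕ) : ∃ l : List ℕ, l.length = 275 ∧ (∀ x ∈ l, x < 512) ∧ mulN s t = pk l :=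
  ⟨_, by simp, fun x hx => by
    obtain ⟨i, -, rfl⟩ := List.mem_map.1 hx
    rw [tabN_eq]; exact Nat.mod_lt _ (by norm_num), rfl⟩

theorem powN_pk (t : ℕ) : ∀ m, ∃ l : List ℕ, l.length = 275 ∧ (∀ x ∈ l, x < 512) ∧ powN t m = pk l
  | 0 => ⟨List.range 275, by simp, fun x hx => by have := List.mem_range.1 hx; omega, rfl⟩
  | m + 1 => mulN_pk _ _

theorem syl_pk : ∀ i < 128, ∃ l : List ℕ, l.length = 275 ∧ (∀ x ∈ l, x < 512) ∧ sN i = pk l := by
  have h : allLt 128 (fun i => sN i == mulN (sN i) idN) = true := by decide +kernel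
  intro i hi
  obtain ⟨l, h1, h2, h3⟩ := mulN_pk (sN i) idN
  exact ⟨l, h1, h2, (beq_iff_eq.1 (allLt_spec h hi)).trans h3⟩

theorem se_injective : Function.Injective se := by
  intro i j h
  have e : sN i.val = sN j.val := pk_eq (syl_pk _ i.isLt) (syl_pk _ j.isLt) fun k => by
    rw [← se_rep i k, ← se_rep j k, h]
  have hnd : syl.Nodup := (incrN_pairwise chk_syl.2.1).imp fun hlt => Nat.ne_of_lt hlt
  have hi : i.val < syl.length := chk_syl.1.symm ▸ i.isLt
  have hj : j.val < syl.length := chk_syl.1.symm ▸ j.isLt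
  rw [sN, sN, List.getD_eq_getElem _ _ hi, List.getD_eq_getElem _ _ hj] at e
  exact Fin.ext (hnd.getElem_inj_iff.1 e)

theorem card_sylS : Nat.card sylS = 2 ^ 7 := by
  have e : Fin 128 ≃ sylS := Equiv.ofBijective (fun i => ⟨se i, se_mem i⟩)
    ⟨fun i j h => se_injective (congrArg Subtype.val h),
      fun x => let ⟨i, hi⟩ := mem_sylS x.2; ⟨i, Subtype.ext hi.symm⟩⟩
  rw [← Nat.card_congr e, Nat.card_fin]; norm_num

/-! ### Strongly closed subgroups -/

/-- The central involution. -/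
noncomputable def zIdx : Fin 128 := ⟨zPos, chk_zu.2.2.1⟩

theorem center_cases {x : gP} (hx : x ∈ sylS) (hc : ∀ y ∈ sylS, x * y = y * x) : x = 1 ∨ x = se zIdx := by
  obtain ⟨i, rfl⟩ := mem_sylS hx
  have h := allLt_spec chk_center.1 i.isLt
  simp only [Bool.or_eq_true, beq_iff_eq, bne_iff_ne] at h
  rcases h with (h | h) | h
  · exact Or.inl (by rw [show i = oneIdx from Fin.ext h, se_one])
  · exact Or.inr (congrArg se (Fin.ext h))
  · exfalso
    have hk : centWit.getD i.val 0 < 3 := of_decide_eq_true (allLt_spec chk_center.2 i.isLt)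
    have e := hc (gen ⟨_, hk⟩) (Subgroup.subset_closure ⟨_, rfl⟩)
    refine h (pk_eq (mulN_pk _ _) (mulN_pk _ _) fun k => ?_)
    rw [← rep_mul (se_rep i) (gen_rep ⟨_, hk⟩) k, ← rep_mul (gen_rep ⟨_, hk⟩) (se_rep i) k, ← Subgroup.coe_mul,
      ← Subgroup.coe_mul, e]

theorem closed_eq (T : Subgroup gP) (hT : T ≤ sylS) (hne : T ≠ ⊥)
    (hcl : ∀ x ∈ T, ∀ g : gP, g * x * g⁻¹ ∈ sylS → g * x * g⁻¹ ∈ T) : T = sylS := by
  haveI : Fact (Nat.Prime 2) := ⟨Nat.prime_two⟩
  haveI : Finite gP := Finite.of_injective _ Subtype.val_injective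
  haveI hn : (T.subgroupOf sylS).Normal := ⟨fun x hx g => by
    rw [Subgroup.mem_subgroupOf] at hx ⊢
    push_cast
    exact hcl _ hx _ (mul_mem (mul_mem g.2 (hT hx)) (inv_mem g.2))⟩
  have hp : IsPGroup 2 sylS := IsPGroup.of_card (n := 7) card_sylS
  haveI : Group.IsNilpotent sylS := hp.isNilpotent
  have hTS : T.subgroupOf sylS ≠ ⊥ := by
    rw [Ne, Subgroup.subgroupOf_eq_bot]
    exact fun h => hne (h.eq_bot_of_le hT)
  have hz : se zIdx ∈ T := by
    obtain ⟨⟨x, hx⟩, hx1⟩ := Subgroup.ne_bot_iff_exists_ne_one.1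
      (CfsgLib.Hall.Struct.inf_center_ne_bot (T.subgroupOf sylS) hTS)
    obtain ⟨hxT, hxc⟩ := Subgroup.mem_inf.1 hx
    rcases center_cases x.2 (fun y hy =>
      (congrArg Subtype.val (Subgroup.mem_center_iff.1 hxc ⟨y, hy⟩)).symm) with h | h
    · exact absurd (Subtype.ext (Subtype.ext h) : (⟨x, hx⟩ : ↥(T.subgroupOf sylS ⊓ Subgroup.center sylS)) = 1) hx1
    · exact h ▸ hxT
  refine le_antisymm hT ?_
  rw [sylS, Subgroup.closure_le]
  rintro _ ⟨k, rfl⟩
  have h := allLt_spec chk_conj k.isLt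
  simp only [Bool.and_eq_true, decide_eq_true_eq, beq_iff_eq] at h
  obtain ⟨g, hg⟩ := elts_mem _ h.1
  have e : g * se zIdx = gen k * g := eq_of_rep (rep_mul hg (se_rep zIdx)) (rep_mul (gen_rep k) hg) h.2
  have e2 : g * se zIdx * g⁻¹ = gen k := by rw [e, mul_inv_cancel_right]
  exact e2 ▸ hcl _ hz g (e2.symm ▸ Subgroup.subset_closure ⟨k, rfl⟩)

/-! ### The normaliser -/

/-- The element of order 8. -/
noncomputable def uIdx : Fin 128 := ⟨uPos, chk_zu.2.2.2.1⟩

/-- The outer involution. -/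
def gT : Perm (Fin 275) where
  toFun k := ⟨tabN pT k.val, by
    have := allLt_spec chk_t k.isLt
    simp only [Bool.and_eq_true, decide_eq_true_eq, beq_iff_eq] at this
    exact this.1⟩
  invFun k := ⟨tabN pT k.val, by
    have := allLt_spec chk_t k.isLt
    simp only [Bool.and_eq_true, decide_eq_true_eq, beq_iff_eq] at this
    exact this.1⟩
  left_inv k := Fin.ext (by
    have := allLt_spec chk_t k.isLt
    simp only [Bool.and_eq_true, decide_eq_true_eq, beq_iff_eq] at this
    exact this.2)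
  right_inv k := Fin.ext (by
    have := allLt_spec chk_t k.isLt
    simp only [Bool.and_eq_true, decide_eq_true_eq, beq_iff_eq] at this
    exact this.2)

theorem rT : Rep pT gT := fun _ => rfl

theorem not_killed (c : gP) {k : ℕ} (hr : Rep k (c : Perm (Fin 275))) : killed k = false := by
  obtain ⟨g, hg⟩ := c.2
  have hm : List.Forall₂ (Moves (g : Co0))
      (McL.cert.vecs McL.spanA (McL.cert.perms.getD 0 []) McL.spanA.base)
      (McL.cert.fx ++ McL.spanA.sel.map fun li => McL.cert.pt (tabN k (selPt li))) := by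
    refine List.rel_append (List.forall₂_same.2 fun f hf => ?_) ?_
    · obtain ⟨v, hv⟩ := fxOk_of McL.fx_ok f hf
      exact ⟨v, hv, by rw [g.2 f hf v hv, hv]⟩
    · rw [List.forall₂_map_left_iff, List.forall₂_map_right_iff]
      refine List.forall₂_same.2 fun li hli => ?_
      have h1 := rho_spec g ⟨selPt li, selPt_lt hli⟩
      rw [hg] at h1
      refine ⟨McL.cert.P (selPt li), (pts_spec McL.ok (chk_np.1.symm ▸ selPt_lt hli)).2.1, ?_⟩
      have hlt := (rho g ⟨selPt li, selPt_lt hli⟩).isLt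
      rw [hg] at hlt
      rw [h1, (pts_spec McL.ok (chk_np.1.symm ▸ hlt)).2.1, hr]
  obtain ⟨v, hv, hgv⟩ := lc_moves (g : Co0) (McL.spanA.rows.getD killAt.1 []) hm
  have hS := searchA_span McL.ok
  simp only [OCert.spanOk, Bool.and_eq_true, List.all_eq_true, List.mem_range, beq_iff_eq] at hS
  have hvi : v = (McL.spanA.D : ℤ) • eight (ptN killAt.1) := Subtype.ext (funext fun q => by
    rw [hv, show McL.spanA = McL.cert.spanA from rfl, hS.1.2 _ chk_span.2.1 _ (idx q).isLt, AddSubgroup.coe_zsmul,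
      Pi.smul_apply, smul_eq_mul]
    congr 1
    show Val (e8 killAt.1) q = _
    rw [show e8 killAt.1 = e8 (idx (ptN killAt.1)).val by rw [idx_ptN chk_span.2.1], e8_val]
    simp [eight, Pi.single_apply])
  have h2 := hgv (ptN killAt.2)
  rw [idx_ptN chk_span.2.2, hvi] at h2
  let f : leechLattice →+ leechLattice := AddMonoidHom.mk' (g : Co0).1 (g : Co0).2.1
  rw [show (g : Co0) • ((McL.spanA.D : ℤ) • eight (ptN killAt.1)) = f ((McL.spanA.D : ℤ) • eight (ptN killAt.1))
    from rfl, map_zsmul, AddSubgroup.coe_zsmul, Pi.smul_apply, smul_eq_mul] at h2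
  rw [killed, Bool.not_eq_false', beq_iff_eq]
  refine Int.emod_eq_zero_of_dvd ⟨(f (eight (ptN killAt.1))).1 (ptN killAt.2), ?_⟩
  exact h2.symm

theorem knownU_rep : ∀ k ∈ knownU, ∃ τ ∈ gAll, Rep k τ := fun k hk => by
  simp only [knownU, List.mem_flatMap, List.mem_map] at hk
  obtain ⟨l, -, i, -, rfl⟩ := hk
  exact ⟨(se uIdx : Perm (Fin 275)) ^ i * gT ^ l,
    mul_mem (pow_mem (gP_le (se uIdx).2) i) (pow_mem (mem_gAll rT chk_aut.2.2) l),
    rep_mul (rep_pow (se_rep uIdx) i) (rep_pow rT l)⟩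

theorem cent_u {c : gP} (h : Commute c (se uIdx)) : c ∈ sylS := by
  have hcomm : Commute (c : Perm (Fin 275)) (se uIdx : Perm (Fin 275)) := congrArg Subtype.val h
  have hB : ∀ r ∈ baseU, r < 275 := fun r hr => of_decide_eq_true (List.all_eq_true.1 chk_pts.2 r hr)
  let S : List (Fin 275) := baseU.pmap (fun r hr => ⟨r, hr⟩) hB
  have hS : S.map Fin.val = baseU := by simp [S, List.map_pmap]
  have hmem := mem_enumT (p := 8) (se_rep uIdx) (gP_le c.2) hcomm S
  rw [hS] at hmem
  obtain ⟨k, hk, he⟩ := List.any_eq_true.1 (List.all_eq_true.1 chk_enum _ hmem)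
  rw [beq_iff_eq] at he
  obtain ⟨τ, hτ, hr⟩ := knownU_rep k hk
  have hτc : Commute τ (se uIdx : Perm (Fin 275)) := rep_ext (rep_mul hr (se_rep uIdx)) (rep_mul (se_rep uIdx) hr)
    (beq_iff_eq.1 (List.all_eq_true.1 chk_known.1 k hk))
  have e : (c : Perm (Fin 275)) = τ := eq_of_base (se_rep uIdx) (gP_le c.2) hτ hcomm hτc chk_pts chk_sep
    fun r hr' => Fin.ext (by
      have hrS : r ∈ S := List.mem_pmap.2 ⟨r.val, hr', rfl⟩
      have e2 : S.map (fun r => ((c : Perm (Fin 275)) r).val) = S.map (fun r => tabN k r.val) := by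
        rw [he, ← hS, List.map_map]; rfl
      rw [hr, List.map_inj_left.1 e2 r hrS])
  rw [← e] at hr
  obtain ⟨n, hn, rfl⟩ := List.getElem_of_mem hk
  have hc := allLt_spec chk_cand (show n < 16 from chk_known.2 ▸ hn)
  rw [List.getD_eq_getElem knownU 0 hn, Bool.or_eq_true, List.elem_iff] at hc
  rcases hc with hc | hc
  · obtain ⟨m, hm, hme⟩ := List.getElem_of_mem hc
    have hm' : m < 128 := chk_syl.1 ▸ hm
    have : c = se ⟨m, hm'⟩ := eq_of_rep hr (se_rep _) (by rw [← hme, sN, List.getD_eq_getElem _ _ hm])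
    exact this ▸ se_mem _
  · rw [not_killed c hr] at hc
    exact absurd hc (by decide)

theorem norm_le : Subgroup.normalizer (sylS : Set gP) ≤ sylS := by
  intro h hh
  have hx : h * se uIdx * h⁻¹ ∈ sylS := (Subgroup.mem_normalizer_iff.1 hh _).1 (se_mem _)
  obtain ⟨i, hi⟩ := mem_sylS hx
  have hm := allLt_spec chk_move i.isLt
  simp only [Bool.or_eq_true, Bool.and_eq_true, decide_eq_true_eq, beq_iff_eq] at hm
  rcases hm with hm | ⟨hj, he⟩
  · exfalso
    have h4 : se i ^ 4 = 1 := eq_of_rep (by rw [SubmonoidClass.coe_pow]; exact rep_pow (se_rep i) 4) rep_id hm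
    rw [← hi, conj_pow, conj_eq_one_iff] at h4
    refine chk_zu.2.2.2.2.2.2.2 (pk_eq (powN_pk _ _) (powN_pk idN 0) fun k => ?_)
    have h1 := rep_pow (se_rep uIdx) 4 k
    rw [← SubmonoidClass.coe_pow, h4] at h1
    exact h1.symm.trans (rep_id k)
  · have e : se ⟨_, hj⟩ * se uIdx = se i * se ⟨_, hj⟩ :=
      eq_of_rep (rep_mul (se_rep ⟨_, hj⟩) (se_rep uIdx)) (rep_mul (se_rep i) (se_rep ⟨_, hj⟩)) he
    rw [← hi] at e
    have hc : Commute ((se ⟨_, hj⟩)⁻¹ * h) (se uIdx) := by
      show (se ⟨_, hj⟩)⁻¹ * h * se uIdx = se uIdx * ((se ⟨_, hj⟩)⁻¹ * h)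
      calc (se ⟨_, hj⟩)⁻¹ * h * se uIdx = (se ⟨_, hj⟩)⁻¹ * (h * se uIdx * h⁻¹ * se ⟨_, hj⟩) *
          ((se ⟨_, hj⟩)⁻¹ * h) := by group
        _ = _ := by rw [← e]; group
    have := mul_mem (se_mem ⟨_, hj⟩) (cent_u hc)
    rwa [mul_inv_cancel_left] at this

/-- The isomorphism with the group in question. -/
noncomputable def mclEquiv : ↥Spor.McL ≃* gP :=
  (McL.equivSpor.trans (MulEquiv.subgroupCongr McL.grp_eq.symm)).trans (MonoidHom.ofInjective rho_injective)

/-- The 2-fusion system of a group isomorphic to the McLaughlin group is simple. -/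
theorem isSimple_fusion {G : Type*} [Group G] [Finite G] (e : G ≃* gP) (S : Sylow 2 G) :
    (Cfsg.groupFusionSystem (S : Subgroup G)).IsSimple 2 := by
  haveI : Fact (Nat.Prime 2) := ⟨Nat.prime_two⟩
  haveI : Finite gP := Finite.of_equiv _ e.toEquiv
  have hfac : (898128000 : ℕ).factorization 2 = 7 := by
    rw [show (898128000 : ℕ) = 2 ^ 7 * 7016625 by norm_num,
      Nat.factorization_mul (by norm_num) (by norm_num), Finsupp.add_apply,
      Nat.Prime.factorization_pow (by norm_num), Finsupp.single_eq_same,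
      Nat.factorization_eq_zero_of_not_dvd (by norm_num)]
  have hS0 : Nat.card sylS = 2 ^ (Nat.card gP).factorization 2 := by rw [card_sylS, card_gP, hfac]
  have hm : Nat.card ((S : Subgroup G).map e.toMonoidHom) = 2 ^ (Nat.card gP).factorization 2 := by
    rw [← Nat.card_congr (Subgroup.equivMapOfInjective _ _ e.injective).toEquiv, S.card_eq_multiplicity,
      Nat.card_congr e.toEquiv]
  obtain ⟨c, hc⟩ := MulAction.exists_smul_eq gP (Sylow.ofCard _ hm) (Sylow.ofCard sylS hS0)
  have hc' : MulAut.conj c • (S : Subgroup G).map e.toMonoidHom = sylS :=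
    congrArg (fun P : Sylow 2 gP => (P : Subgroup gP)) hc
  let f : G ≃* gP := e.trans (MulAut.conj c)
  have hfS : ∀ x, x ∈ (S : Subgroup G) ↔ f x ∈ sylS := by
    intro x
    rw [← hc']
    show _ ↔ MulAut.conj c • e x ∈ _
    rw [Subgroup.smul_mem_pointwise_smul_iff]
    exact (Subgroup.mem_map_iff_mem (f := e.toMonoidHom) e.injective).symm
  refine CfsgLib.Fusion.isSimple_of_generators 2 S ?_ ?_ ?_
  · intro h
    have h1 : Nat.card (S : Subgroup G) = 1 := by rw [h, Subgroup.card_bot]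
    rw [S.card_eq_multiplicity, Nat.card_congr f.toEquiv, card_gP, hfac] at h1
    norm_num at h1
  · intro T hT
    rcases eq_or_ne T ⊥ with h | h
    · exact Or.inl h
    right
    have key := closed_eq (T.map f.toMonoidHom) ?_ ?_ ?_
    · ext x
      rw [hfS, ← key]
      exact (Subgroup.mem_map_iff_mem (f := f.toMonoidHom) f.injective).symm
    · rintro _ ⟨x, hx, rfl⟩
      exact (hfS x).1 (hT.1 hx)
    · exact fun hb => h ((Subgroup.map_eq_bot_iff_of_injective T f.injective).1 hb)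
    · rintro _ ⟨x, hx, rfl⟩ g hg
      obtain ⟨u, rfl⟩ := f.surjective g
      have hu : f (u * x * u⁻¹) = f u * f x * (f u)⁻¹ := by rw [map_mul, map_mul, map_inv]
      refine ⟨u * x * u⁻¹, ?_, hu⟩
      have hxS : u * x * u⁻¹ ∈ (S : Subgroup G) := (hfS _).2 (hu ▸ hg)
      have hle : Subgroup.zpowers x ≤ T := Subgroup.zpowers_le.2 hx
      exact hT.2 (Subgroup.zpowers x) hle ((MulAut.conj u).toMonoidHom.comp (Subgroup.zpowers x).subtype)
        ⟨hle.trans hT.1, fun y => by
            obtain ⟨i, hi⟩ := Subgroup.mem_zpowers_iff.1 y.2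
            show u * (y : G) * u⁻¹ ∈ _
            rw [← hi, ← conj_zpow]
            exact Subgroup.zpow_mem _ hxS i,
          u, fun y => rfl⟩ ⟨x, Subgroup.mem_zpowers x⟩
  · intro g hg
    have hgS : g ∈ (S : Subgroup G) := by
      refine (hfS g).2 (norm_le (Subgroup.mem_normalizer_iff.2 fun y => ?_))
      obtain ⟨w, rfl⟩ := f.surjective y
      rw [← map_inv, ← map_mul, ← map_mul, ← hfS, ← hfS]
      exact Subgroup.mem_normalizer_iff.1 hg w
    have hR : (S : Subgroup G) ≤ (S : Subgroup G) ∧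
        (S : Subgroup G) ≤ Subgroup.normalizer ((S : Subgroup G) : Set G) ∧
        Subgroup.centralizer ((S : Subgroup G) : Set G) ≤ (S : Subgroup G) := by
      refine ⟨le_rfl, Subgroup.le_normalizer, fun x hx => (hfS x).2 (norm_le (Subgroup.mem_normalizer_iff.2 fun y => ?_))⟩
      obtain ⟨w, rfl⟩ := f.surjective y
      rw [← map_inv, ← map_mul, ← map_mul, ← hfS, ← hfS]
      constructor <;> intro hw
      · rwa [← Subgroup.mem_centralizer_iff.1 hx w hw, mul_inv_cancel_right]
      · have h2 := Subgroup.mem_centralizer_iff.1 hx _ hw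
        rw [inv_mul_cancel_right] at h2
        rw [← mul_left_cancel h2] at hw
        exact hw
    refine Subgroup.mem_iSup_of_mem (S : Subgroup G) (Subgroup.mem_iSup_of_mem hR ⟨hg, Subgroup.subset_closure ?_⟩)
    obtain ⟨k, hk⟩ := IsPGroup.iff_orderOf.1 S.2 ⟨g, hgS⟩
    exact ⟨Subgroup.le_normalizer hgS, k, by rw [← hk, Subgroup.orderOf_mk]⟩

end CfsgLib.McLFus
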